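import Groth.Agent.Lib.Helper2.StalkFlat.StalkColim

set_option autoImplicit false
universe u
open CategoryTheory CategoryTheory.Limits AlgebraicGeometry TopologicalSpace Opposite
open Groth.Agent.Lib.Helper17.StalkExact Groth.Agent.Lib.Helper3

namespace Groth.Agent.Lib.Helper2.StalkFlat

variable {X : Scheme.{u}}

lemma stalkLin_comp_apply {F G H : X.Modules} (φ : F ⟶ G) (ψ : G ⟶ H) (x : X)
    (m : F.presheaf.stalk x) : stalkLin (φ ≫ ψ) x m = stalkLin ψ x (stalkLin φ x m) :=
  QS.stalkMap_comp_apply φ ψ x m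

lemma stalkLin_id_apply (F : X.Modules) (x : X) (m : F.presheaf.stalk x) :
    stalkLin (𝟙 F) x m = m := by
  obtain ⟨W, hx, s, rfl⟩ := TopCat.Presheaf.exists_germ_eq F.presheaf m
  rw [stalkLin_apply, QS.stalkMap_germ]
  rfl

lemma stalkLin_zero_apply {F G : X.Modules} (x : X) (m : F.presheaf.stalk x) :
    stalkLin (0 : F ⟶ G) x m = 0 :=
  QS.stalkMap_zero_apply x m

/-- Stalkwise flatness is invariant under isomorphism. -/
theorem isFlat_of_iso {M M' : X.Modules} (e : M ≅ M') (h : FlatMod.IsFlat M) :
    FlatMod.IsFlat M' := by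
  intro x
  have := h x
  unfold FlatMod.IsFlatAt at this ⊢
  let E : M'.presheaf.stalk x ≃ₗ[X.presheaf.stalk x] M.presheaf.stalk x :=
    LinearEquiv.ofLinear (stalkLin e.inv x) (stalkLin e.hom x)
      (by ext m; simp only [LinearMap.comp_apply, LinearMap.id_apply]
          rw [← stalkLin_comp_apply, e.hom_inv_id, stalkLin_id_apply])
      (by ext m; simp only [LinearMap.comp_apply, LinearMap.id_apply]
          rw [← stalkLin_comp_apply, e.inv_hom_id, stalkLin_id_apply])
  exact Module.Flat.of_linearEquiv E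

/-- The images of the stalks of the legs of a colimit cocone generate the stalk of the colimit. -/
theorem iSup_range_stalkLin_eq_top {K : Type u} [Category.{u} K] {D : K ⥤ X.Modules}
    (c : Cocone D) (hc : IsColimit c) (x : X) :
    (⨆ k, LinearMap.range (show (D.obj k).presheaf.stalk x →ₗ[X.presheaf.stalk x]
      c.pt.presheaf.stalk x from stalkLin (c.ι.app k) x) :
      Submodule (X.presheaf.stalk x) (c.pt.presheaf.stalk x)) = ⊤ := by
  have h := iSup_range_eq_top_of_isColimit ((stalkAb x).mapCocone c)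
    (isColimitOfPreserves (stalkAb x) hc)
  rw [eq_top_iff]
  intro m _
  have hm : m ∈ (⨆ k, (((stalkAb x).mapCocone c).ι.app k).hom.range :
      AddSubgroup ((stalkAb x).mapCocone c).pt) := by rw [h]; trivial
  refine AddSubgroup.iSup_induction (C := fun m => m ∈ (⨆ k,
    LinearMap.range (show (D.obj k).presheaf.stalk x →ₗ[X.presheaf.stalk x]
      c.pt.presheaf.stalk x from stalkLin (c.ι.app k) x) :
      Submodule (X.presheaf.stalk x) (c.pt.presheaf.stalk x))) _ hm ?_ ?_ ?_
  · rintro k _ ⟨a, rfl⟩
    exact Submodule.mem_iSup_of_mem k ⟨a, rfl⟩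
  · exact Submodule.zero_mem _
  · intro a b ha hb
    exact Submodule.add_mem _ ha hb

/-- Stalkwise flatness is preserved by coproducts. -/
theorem isFlat_sigma {ι : Type u} (M : ι → X.Modules) (h : ∀ i, FlatMod.IsFlat (M i)) :
    FlatMod.IsFlat (∐ M) := by
  classical
  intro x
  unfold FlatMod.IsFlatAt
  refine flat_of_sum (fun i => (M i).presheaf.stalk x) (fun i => h i x)
    (fun i => stalkLin (Sigma.ι M i) x) (fun i => stalkLin (Sigma.π M i) x) ?_ ?_ ?_
  · intro i m
    rw [← stalkLin_comp_apply, Sigma.ι_π_eq_id, stalkLin_id_apply]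
  · intro i j hij m
    rw [← stalkLin_comp_apply, Sigma.ι_π_of_ne _ hij, stalkLin_zero_apply]
  · have := iSup_range_stalkLin_eq_top (colimit.cocone (Discrete.functor M))
      (colimit.isColimit _) x
    rw [eq_top_iff, ← this]
    refine iSup_le fun k => ?_
    exact le_iSup (fun i => LinearMap.range (stalkLin (Sigma.ι M i) x)) k.as

instance (x : X) : PreservesColimitsOfSize.{u, u} (stalkAb x) := ⟨fun {K} _ => inferInstance⟩

instance (x : X) : PreservesColimitsOfShape ℕ (stalkAb x) :=
  (preservesSmallestColimits_of_preservesColimits.{u, u} (stalkAb x)).preservesColimitsOfShape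

/-- Stalkwise flatness is preserved by sequential colimits. -/
theorem isFlat_of_isColimit_nat (D : ℕ ⥤ X.Modules) (h : ∀ n, FlatMod.IsFlat (D.obj n))
    (c : Cocone D) (hc : IsColimit c) : FlatMod.IsFlat c.pt := by
  intro x
  unfold FlatMod.IsFlatAt
  have hc' := isColimitOfPreserves (stalkAb x) hc
  haveI : PreservesFilteredColimitsOfSize.{0, 0} (forget Ab.{u}) :=
    preservesSmallestFilteredColimits_of_preservesFilteredColimits.{u, u} _
  haveI : PreservesColimitsOfShape ℕ (forget Ab.{u}) :=
    PreservesFilteredColimitsOfSize.preserves_filtered_colimits ℕ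
  let φ : ∀ n, (D.obj n).presheaf.stalk x →ₗ[X.presheaf.stalk x] c.pt.presheaf.stalk x :=
    fun n => stalkLin (c.ι.app n) x
  refine flat_of_directed (fun n => (D.obj n).presheaf.stalk x) (fun n => h n x)
    (fun n m hnm => stalkLin (D.map (homOfLE hnm)) x) φ ?_ ?_ ?_
  · intro n m hnm a
    show stalkLin (c.ι.app m) x (stalkLin (D.map (homOfLE hnm)) x a) = stalkLin (c.ι.app n) x a
    rw [← stalkLin_comp_apply, c.w]
  · intro m
    obtain ⟨n, a, ha⟩ := Concrete.isColimit_exists_rep (D ⋙ stalkAb x) hc' m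
    exact ⟨n, a, ha⟩
  · intro n a ha
    have h0 : ((stalkAb x).mapCocone c).ι.app n a =
        ((stalkAb x).mapCocone c).ι.app n (0 : (D ⋙ stalkAb x).obj n) :=
      (show ((stalkAb x).mapCocone c).ι.app n a = 0 from ha).trans
        (map_zero (((stalkAb x).mapCocone c).ι.app n).hom).symm
    obtain ⟨k, f, g, hfg⟩ := Concrete.isColimit_exists_of_rep_eq (D ⋙ stalkAb x) hc' a 0 h0
    refine ⟨k, f.le, ?_⟩
    exact hfg.trans (map_zero ((D ⋙ stalkAb x).map g).hom)

lemma stalkLin_add_apply {F G : X.Modules} (φ ψ : F ⟶ G) (x : X) (m : F.presheaf.stalk x) :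
    stalkLin (φ + ψ) x m = stalkLin φ x m + stalkLin ψ x m := by
  obtain ⟨W, hx, s, rfl⟩ := TopCat.Presheaf.exists_germ_eq F.presheaf m
  rw [stalkLin_apply, stalkLin_apply, stalkLin_apply, QS.stalkMap_germ, QS.stalkMap_germ,
    QS.stalkMap_germ, ← map_add]
  rfl

/-- Stalkwise flatness is preserved by split extensions. -/
theorem isFlat_of_splitting (S : ShortComplex X.Modules) (s : S.Splitting)
    (h₁ : FlatMod.IsFlat S.X₁) (h₃ : FlatMod.IsFlat S.X₃) : FlatMod.IsFlat S.X₂ := by
  intro x
  unfold FlatMod.IsFlatAt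
  let Mf : Bool → X.Modules := fun b => cond b S.X₁ S.X₃
  let incl : ∀ b, Mf b ⟶ S.X₂ := fun b => match b with
    | true => S.f
    | false => s.s
  let proj : ∀ b, S.X₂ ⟶ Mf b := fun b => match b with
    | true => s.r
    | false => S.g
  refine flat_of_sum (fun b => (Mf b).presheaf.stalk x)
    (fun b => match b with
      | true => h₁ x
      | false => h₃ x)
    (fun b => stalkLin (incl b) x) (fun b => stalkLin (proj b) x) ?_ ?_ ?_
  · intro b m
    rw [← stalkLin_comp_apply]
    match b with
    | true => rw [show incl true ≫ proj true = 𝟙 _ from s.f_r, stalkLin_id_apply]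
    | false => rw [show incl false ≫ proj false = 𝟙 _ from s.s_g, stalkLin_id_apply]
  · intro b b' hbb' m
    rw [← stalkLin_comp_apply]
    match b, b', hbb' with
    | true, false, _ => rw [show incl true ≫ proj false = 0 from S.zero, stalkLin_zero_apply]
    | false, true, _ => rw [show incl false ≫ proj true = 0 from s.s_r, stalkLin_zero_apply]
  · rw [eq_top_iff]
    intro m _
    have e : m = stalkLin (incl true) x (stalkLin (proj true) x m) +
        stalkLin (incl false) x (stalkLin (proj false) x m) := by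
      rw [← stalkLin_comp_apply, ← stalkLin_comp_apply, ← stalkLin_add_apply,
        show proj true ≫ incl true + proj false ≫ incl false = 𝟙 _ from s.id, stalkLin_id_apply]
    rw [e]
    exact Submodule.add_mem _ (Submodule.mem_iSup_of_mem true ⟨_, rfl⟩)
      (Submodule.mem_iSup_of_mem false ⟨_, rfl⟩)

end Groth.Agent.Lib.Helper2.StalkFlat
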