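import Groth.Agent.Lib.Helper2.StalkFlat.LocInj

set_option autoImplicit false
universe v v₁ u₁ u
open CategoryTheory CategoryTheory.Limits AlgebraicGeometry TopologicalSpace Opposite
open Groth.Agent.Lib.Helper13 Groth.Agent.Lib.Helper13.TensorLocal
  Groth.Agent.Lib.Helper13.ModSiteTensor MonoidalCategory

namespace Groth.Agent.Lib.Helper2.StalkFlat

section Sheafification

variable {C : Type u₁} [Category.{v₁} C] {J : GrothendieckTopology C}
variable {R₀ : Cᵒᵖ ⥤ RingCat.{u}} {R : Sheaf J RingCat.{u}} (α : R₀ ⟶ R.obj)
  [Presheaf.IsLocallyInjective J α] [Presheaf.IsLocallySurjective J α]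
  [J.WEqualsLocallyBijective AddCommGrpCat.{v}] [HasWeakSheafify J AddCommGrpCat.{v}]

/-- Sheafification of presheaves of modules sends locally injective morphisms to monomorphisms. -/
theorem mono_sheafification_map {P P' : PresheafOfModules.{v} R₀} (g : P ⟶ P')
    (hi : LocInj J g) : Mono ((PresheafOfModules.sheafification α).map g) := by
  have h2 := isLocallyInjective_of_locInj hi
  have h3 : Sheaf.IsLocallyInjective ((presheafToSheaf J AddCommGrpCat.{v}).map
      ((PresheafOfModules.toPresheaf R₀).map g)) :=
    (Presheaf.isLocallyInjective_presheafToSheaf_map_iff J _).mpr h2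
  have h4 : Mono ((presheafToSheaf J AddCommGrpCat.{v}).map
      ((PresheafOfModules.toPresheaf R₀).map g)) := Sheaf.mono_of_isLocallyInjective _
  have h5 : Mono ((SheafOfModules.toSheaf R).map ((PresheafOfModules.sheafification α).map g)) := by
    have e' : (SheafOfModules.toSheaf R).map ((PresheafOfModules.sheafification α).map g) =
        (PresheafOfModules.sheafificationCompToSheaf α).hom.app P ≫
          (presheafToSheaf J AddCommGrpCat.{v}).map ((PresheafOfModules.toPresheaf R₀).map g) ≫
          (PresheafOfModules.sheafificationCompToSheaf α).inv.app P' :=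
      (NatIso.naturality_2 (PresheafOfModules.sheafificationCompToSheaf α) g).symm
    rw [e']
    infer_instance
  exact (SheafOfModules.toSheaf R).mono_of_mono_map h5

end Sheafification

section Scheme

variable {X : Scheme.{u}}

/-- An `O_X`-module all of whose stalks are flat is flat (tensoring with it is exact). -/
theorem isFlat_of_flat_stalks (F : X.Modules) (hF : FlatMod.IsFlat F) :
    ModSite.IsFlat (O := X.sheaf) F := by
  apply Groth.Agent.Lib.Helper13.ModSiteFlatSES.isFlat_of_mono
  intro G' G a ha
  show Mono ((shf X.sheaf).map ((fgt X.sheaf).map a ▷ (fgt X.sheaf).obj F))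
  exact mono_sheafification_map (𝟙 (ModSite.ringSh X.sheaf).obj) _
    (@locInj_whiskerRight_of_flat X G' G a ha F hF)

end Scheme

end Groth.Agent.Lib.Helper2.StalkFlat
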