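import Mathlib.RingTheory.Flat.EquationalCriterion
import Mathlib.RingTheory.Flat.Basic
import Mathlib.Algebra.DirectSum.Module

/-!
# Flatness of directed unions and of direct sums, in elementwise form (helper2)
-/

set_option autoImplicit false

namespace Groth.Agent.Lib.Helper2.StalkFlat

open Module

section Directed

variable {R M : Type*} [CommRing R] [AddCommGroup M] [Module R M]
  {ι : Type*} [Preorder ι] [IsDirected ι (· ≤ ·)] [Nonempty ι]
  (G : ι → Type*) [∀ i, AddCommGroup (G i)] [∀ i, Module R (G i)]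

/-- A module which is a directed colimit (in elementwise form) of flat modules is flat. -/
theorem flat_of_directed (hflat : ∀ i, Module.Flat R (G i))
    (τ : ∀ i j, i ≤ j → G i →ₗ[R] G j) (φ : ∀ i, G i →ₗ[R] M)
    (hφτ : ∀ i j (h : i ≤ j) (x : G i), φ j (τ i j h x) = φ i x)
    (hsurj : ∀ m : M, ∃ (i : ι) (x : G i), φ i x = m)
    (hinj : ∀ (i : ι) (x : G i), φ i x = 0 → ∃ (j : ι) (h : i ≤ j), τ i j h x = 0) :
    Module.Flat R M := by
  apply Module.Flat.of_forall_isTrivialRelation
  intro l f x hfx
  -- a common index for the `x i`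
  have key : ∃ (i : ι) (x' : Fin l → G i), ∀ k, φ i (x' k) = x k := by
    choose i₀ x₀ hx₀ using fun k => hsurj (x k)
    obtain ⟨i, hi⟩ := Finite.exists_le i₀
    exact ⟨i, fun k => τ (i₀ k) i (hi k) (x₀ k), fun k => by rw [hφτ, hx₀]⟩
  obtain ⟨i, x', hx'⟩ := key
  have h0 : φ i (∑ k, f k • x' k) = 0 := by
    rw [map_sum, ← hfx]
    refine Finset.sum_congr rfl fun k _ => ?_
    rw [map_smul, hx']
  obtain ⟨j, hij, hj⟩ := hinj i _ h0
  have h1 : ∑ k, f k • τ i j hij (x' k) = 0 := by
    rw [← hj, map_sum]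
    refine Finset.sum_congr rfl fun k _ => ?_
    rw [map_smul]
  haveI := hflat j
  obtain ⟨k', a, y, hy, ha⟩ := Module.Flat.isTrivialRelation_of_sum_smul_eq_zero h1
  have hy' : ∀ k, τ i j hij (x' k) = ∑ q, a k q • y q := hy
  refine ⟨k', a, fun q => φ j (y q), fun k => ?_, ha⟩
  show x k = ∑ q, a k q • φ j (y q)
  rw [← hx' k, ← hφτ i j hij, hy' k, map_sum]
  refine Finset.sum_congr rfl fun q _ => ?_
  rw [map_smul]

end Directed

section Sum

variable {R M : Type*} [CommRing R] [AddCommGroup M] [Module R M]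
  {ι : Type*} (G : ι → Type*) [∀ i, AddCommGroup (G i)] [∀ i, Module R (G i)]

/-- A module which is the direct sum (in elementwise form) of flat modules is flat. -/
theorem flat_of_sum (hflat : ∀ i, Module.Flat R (G i))
    (inc : ∀ i, G i →ₗ[R] M) (pr : ∀ i, M →ₗ[R] G i)
    (h1 : ∀ i x, pr i (inc i x) = x) (h2 : ∀ i j, i ≠ j → ∀ x, pr j (inc i x) = 0)
    (hgen : ⨆ i, LinearMap.range (inc i) = ⊤) : Module.Flat R M := by
  classical
  let Φ : (DirectSum ι G) →ₗ[R] M := DirectSum.toModule R ι M inc
  have hsurj : Function.Surjective Φ := by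
    rw [← LinearMap.range_eq_top, eq_top_iff, ← hgen]
    refine iSup_le fun i => ?_
    rintro _ ⟨x, rfl⟩
    exact ⟨DirectSum.lof R ι G i x, DirectSum.toModule_lof R i x⟩
  have hinj : Function.Injective Φ := by
    rw [← LinearMap.ker_eq_bot, eq_bot_iff]
    intro z hz
    rw [LinearMap.mem_ker] at hz
    rw [Submodule.mem_bot]
    apply DirectSum.ext_component R
    intro j
    have key : (pr j).comp Φ = DirectSum.component R ι G j := by
      apply DirectSum.linearMap_ext
      intro i
      ext x
      simp only [LinearMap.comp_apply, Φ, DirectSum.toModule_lof]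
      by_cases hij : i = j
      · subst hij
        rw [h1, DirectSum.component.lof_self]
      · rw [h2 i j hij, DirectSum.component.of, dif_neg hij]
    have key' := LinearMap.congr_fun key z
    rw [LinearMap.comp_apply, hz, map_zero] at key'
    rw [← key', map_zero]
  haveI : ∀ i, Module.Flat R (G i) := hflat
  exact Module.Flat.of_linearEquiv (LinearEquiv.ofBijective Φ ⟨hinj, hsurj⟩).symm

end Sum

end Groth.Agent.Lib.Helper2.StalkFlat
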