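import Groth.Agent.Lib.Helper17.StalkExact
import Groth.Agent.Lib.Helper13.TensorLocal
import Groth.Agent.Lib.Helper13.ModSiteFlatSES
import Groth.Agent.Lib.Helper3.QcohStalk
import Groth.Prelude.Def_FlatMod2

set_option autoImplicit false
universe u
open CategoryTheory CategoryTheory.Limits AlgebraicGeometry TopologicalSpace Opposite

namespace Groth.Agent.Lib.Helper2.StalkFlat

section Germs

variable {C : Type (u+1)} [Category.{u} C] {FC : C → C → Type*} {CC : C → Type u}
  [∀ X Y, FunLike (FC X Y) (CC X) (CC Y)] [ConcreteCategory C FC] [HasColimits.{u} C]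
  [PreservesFilteredColimits (forget C)] {T : TopCat.{u}} (P : T.Presheaf C)

/-- Finitely many germs have representatives on a common neighbourhood. -/
theorem exists_germ_finite (x : T) {ι : Type*} [Finite ι] (s : ι → ToType (P.stalk x))
    (U : Opens T) (hxU : x ∈ U) :
    ∃ (W : Opens T) (_ : W ≤ U) (hx : x ∈ W) (σ : ι → ToType (P.obj (op W))),
      ∀ i, P.germ W x hx (σ i) = s i := by
  choose V hxV σ hσ using fun i => TopCat.Presheaf.exists_germ_eq P (s i)
  let W : Opens T := U ⊓ ⨅ i, V i
  have hxW : x ∈ W := by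
    refine ⟨hxU, ?_⟩
    show x ∈ ((⨅ i, V i : Opens T) : Set T)
    rw [Opens.coe_iInf]
    exact Set.mem_iInter.mpr hxV
  have hWV : ∀ i, W ≤ V i := fun i => inf_le_right.trans (iInf_le V i)
  refine ⟨W, inf_le_left, hxW, fun i => P.map (homOfLE (hWV i)).op (σ i), fun i => ?_⟩
  rw [TopCat.Presheaf.germ_res_apply, hσ]

end Germs

section Zero

variable {X : Scheme.{u}}

open Groth.Agent.Lib.Helper3

/-- Finitely many sections with vanishing germ at `x` vanish on a common neighbourhood. -/
theorem exists_res_eq_zero_finite (F : X.Modules) (x : X) {W : X.Opens} (hx : x ∈ W)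
    {ι : Type*} [Finite ι] (s : ι → Γ(F, W)) (h : ∀ i, F.presheaf.germ W x hx (s i) = 0) :
    ∃ (W' : X.Opens) (hW' : W' ≤ W), x ∈ W' ∧
      ∀ i, F.presheaf.map (homOfLE hW').op (s i) = 0 := by
  have key : ∀ i, ∃ (V : X.Opens) (hV : V ≤ W), x ∈ V ∧
      F.presheaf.map (homOfLE hV).op (s i) = 0 := by
    intro i
    have h1 : F.presheaf.germ W x hx (s i) = F.presheaf.germ W x hx (0 : Γ(F, W)) := by
      rw [h i, map_zero]
    obtain ⟨V, hxV, iU, iV, he⟩ := TopCat.Presheaf.germ_eq F.presheaf x hx hx _ _ h1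
    refine ⟨V, iU.le, hxV, ?_⟩
    rw [map_zero] at he
    exact he
  choose V hV hxV hVz using key
  let W' : X.Opens := W ⊓ ⨅ i, V i
  have hxW' : x ∈ W' := by
    refine ⟨hx, ?_⟩
    show x ∈ ((⨅ i, V i : X.Opens) : Set X)
    rw [Opens.coe_iInf]
    exact Set.mem_iInter.mpr hxV
  have hW'V : ∀ i, W' ≤ V i := fun i => inf_le_right.trans (iInf_le V i)
  refine ⟨W', inf_le_left, hxW', fun i => ?_⟩
  have h2 : F.presheaf.map (homOfLE (inf_le_left : W' ≤ W)).op (s i) =
      F.presheaf.map (homOfLE (hW'V i)).op (F.presheaf.map (homOfLE (hV i)).op (s i)) := by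
    rw [← ConcreteCategory.comp_apply, ← F.presheaf.map_comp]
    rfl
  rw [h2, hVz i, map_zero]

end Zero

section Tau

variable {X : Scheme.{u}}

open Groth.Agent.Lib.Helper3 Groth.Agent.Lib.Helper13.ModSiteTensor TensorProduct

/-- The germ map on sections, as an additive map on the module of sections. -/
noncomputable def germHom (A : X.Modules) (U : X.Opens) (x : X) (hx : x ∈ U) :
    ↑(((fgt X.sheaf).obj A).obj (op U)) →+ ↑(A.presheaf.stalk x) :=
  (A.presheaf.germ U x hx).hom

lemma germHom_apply (A : X.Modules) (U : X.Opens) (x : X) (hx : x ∈ U) (m : Γ(A, U)) :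
    germHom A U x hx m = A.presheaf.germ U x hx m := rfl

lemma germHom_smul (A : X.Modules) (U : X.Opens) (x : X) (hx : x ∈ U)
    (r : X.sheaf.obj.obj (op U)) (m : ((fgt X.sheaf).obj A).obj (op U)) :
    germHom A U x hx (r • m) = X.presheaf.germ U x hx r • germHom A U x hx m :=
  QS.germ_smul A x hx r m

/-- The tensor product of the germ maps. -/
noncomputable def tau (A F : X.Modules) (U : X.Opens) (x : X) (hx : x ∈ U) :
    (↑(((fgt X.sheaf).obj A).obj (op U)) ⊗[X.sheaf.obj.obj (op U)]
        ↑(((fgt X.sheaf).obj F).obj (op U))) →+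
      (A.presheaf.stalk x) ⊗[X.presheaf.stalk x] (F.presheaf.stalk x) :=
  TensorProduct.liftAddHom
    (AddMonoidHom.mk' (fun m => ((TensorProduct.mk (X.presheaf.stalk x) (A.presheaf.stalk x)
        (F.presheaf.stalk x) (germHom A U x hx m)).toAddMonoidHom).comp (germHom F U x hx))
      (fun a b => by
        ext n
        simp only [map_add, AddMonoidHom.coe_comp, Function.comp_apply, AddMonoidHom.add_apply,
          LinearMap.toAddMonoidHom_coe, LinearMap.add_apply]))
    (fun r m n => by
      show (germHom A U x hx (r • m)) ⊗ₜ[X.presheaf.stalk x] (germHom F U x hx n) =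
        (germHom A U x hx m) ⊗ₜ[X.presheaf.stalk x] (germHom F U x hx (r • n))
      rw [germHom_smul, germHom_smul, TensorProduct.smul_tmul])

lemma tau_tmul (A F : X.Modules) (U : X.Opens) (x : X) (hx : x ∈ U)
    (m : ((fgt X.sheaf).obj A).obj (op U)) (n : ((fgt X.sheaf).obj F).obj (op U)) :
    tau A F U x hx (m ⊗ₜ n) = (germHom A U x hx m) ⊗ₜ[X.presheaf.stalk x] (germHom F U x hx n) :=
  rfl

end Tau

end Groth.Agent.Lib.Helper2.StalkFlat
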