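import Groth.Agent.Lib.Helper2.StalkFlat.Germs

set_option autoImplicit false
universe u
open CategoryTheory CategoryTheory.Limits AlgebraicGeometry TopologicalSpace Opposite
open Groth.Agent.Lib.Helper13 Groth.Agent.Lib.Helper13.TensorLocal
  Groth.Agent.Lib.Helper13.ModSiteTensor MonoidalCategory TensorProduct
  Groth.Agent.Lib.Helper17.StalkExact Groth.Agent.Lib.Helper3

namespace Groth.Agent.Lib.Helper2.StalkFlat

variable {X : Scheme.{u}}

/-- Two finite families of sections with vanishing germs vanish on a common neighbourhood. -/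
theorem exists_restrict_eq_zero₂ (A F : X.Modules) (x : X) {W : X.Opens} (hx : x ∈ W)
    {ι ι' : Type*} [Finite ι] [Finite ι']
    (s : ι → ((fgt X.sheaf).obj A).obj (op W)) (s' : ι' → ((fgt X.sheaf).obj F).obj (op W))
    (h : ∀ i, germHom A W x hx (s i) = 0) (h' : ∀ i, germHom F W x hx (s' i) = 0) :
    ∃ (W' : X.Opens) (hW' : W' ≤ W), x ∈ W' ∧
      (∀ i, ((fgt X.sheaf).obj A).restrictₛₗ (homOfLE hW').op (s i) = 0) ∧
      (∀ i, ((fgt X.sheaf).obj F).restrictₛₗ (homOfLE hW').op (s' i) = 0) := by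
  obtain ⟨W₁, hW₁, hxW₁, hz₁⟩ := exists_res_eq_zero_finite A x hx s h
  obtain ⟨W₂, hW₂, hxW₂, hz₂⟩ := exists_res_eq_zero_finite F x hx s' h'
  refine ⟨W₁ ⊓ W₂, inf_le_left.trans hW₁, ⟨hxW₁, hxW₂⟩, fun i => ?_, fun i => ?_⟩
  · have e := PresheafOfModules.map_comp_apply ((fgt X.sheaf).obj A) (homOfLE hW₁).op
      (homOfLE (inf_le_left : W₁ ⊓ W₂ ≤ W₁)).op (s i)
    have hz : ((fgt X.sheaf).obj A).map (homOfLE hW₁).op (s i) = 0 := hz₁ i
    exact (e.trans (congrArg _ hz)).trans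
      (map_zero (((fgt X.sheaf).obj A).map (homOfLE (inf_le_left : W₁ ⊓ W₂ ≤ W₁)).op).hom)
  · have e := PresheafOfModules.map_comp_apply ((fgt X.sheaf).obj F) (homOfLE hW₂).op
      (homOfLE (inf_le_right : W₁ ⊓ W₂ ≤ W₂)).op (s' i)
    have hz : ((fgt X.sheaf).obj F).map (homOfLE hW₂).op (s' i) = 0 := hz₂ i
    exact (e.trans (congrArg _ hz)).trans
      (map_zero (((fgt X.sheaf).obj F).map (homOfLE (inf_le_right : W₁ ⊓ W₂ ≤ W₂)).op).hom)

lemma germHom_restrict (A : X.Modules) (x : X) {W U : X.Opens} (hWU : W ≤ U) (hx : x ∈ W)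
    (s : ((fgt X.sheaf).obj A).obj (op U)) :
    germHom A W x hx (((fgt X.sheaf).obj A).restrictₛₗ (homOfLE hWU).op s) =
      germHom A U x (hWU hx) s :=
  TopCat.Presheaf.germ_res_apply A.presheaf (homOfLE hWU) x hx s

theorem locInj_whiskerRight_of_flat {A A' : X.Modules} (a : A ⟶ A') [Mono a] (F : X.Modules)
    (hF : FlatMod.IsFlat F) :
    LocInj (Opens.grothendieckTopology X)
      ((fgt X.sheaf).map a ▷ (fgt X.sheaf).obj F) := by
  intro U t ht
  let P : PMod X.sheaf := (fgt X.sheaf).obj A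
  let P' : PMod X.sheaf := (fgt X.sheaf).obj A'
  let N : PMod X.sheaf := (fgt X.sheaf).obj F
  let f : P ⟶ P' := (fgt X.sheaf).map a
  obtain ⟨k, p, n, hpn⟩ := TensorProduct.exists_sum_tmul_eq (R := X.sheaf.obj.obj (op U))
    (M := P.obj (op U)) (N := N.obj (op U)) t
  have h0 : ∑ i, (f.app (op U)).hom (p i) ⊗ₜ[X.sheaf.obj.obj (op U)] n i = 0 := by
    have h1 : (f ▷ N).app (op U) (∑ i, p i ⊗ₜ[X.sheaf.obj.obj (op U)] n i) =
        ∑ i, (f.app (op U)).hom (p i) ⊗ₜ[X.sheaf.obj.obj (op U)] n i :=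
      (map_sum ((f ▷ N).app (op U)).hom _ _).trans (Finset.sum_congr rfl fun i _ => rfl)
    have ht' := ht
    rw [hpn] at ht'
    exact h1.symm.trans ht'
  let K : Sieve U :=
    { arrows := fun V g => (P ⊗ N).map g.op t = 0
      downward_closed := by
        intro V W g hg h
        show (P ⊗ N).map (h ≫ g).op t = 0
        have e1 := PresheafOfModules.map_comp_apply (P ⊗ N) g.op h.op t
        rw [op_comp, e1]
        exact (congrArg ((P ⊗ N).map h.op).hom hg).trans (map_zero ((P ⊗ N).map h.op).hom) }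
  refine ⟨K, ?_, fun V g hg => hg⟩
  intro x hx
  -- pass to stalks
  have h1 : ∑ i, tau A' F U x hx
      ((f.app (op U)).hom (p i) ⊗ₜ[X.sheaf.obj.obj (op U)] n i) = 0 :=
    ((map_sum (tau A' F U x hx) _ _).symm.trans (congrArg (tau A' F U x hx) h0)).trans
      (map_zero _)
  have h2 : ∑ i, (stalkLin a x (germHom A U x hx (p i))) ⊗ₜ[X.presheaf.stalk x]
      (germHom F U x hx (n i)) = 0 := by
    rw [← h1]
    refine Finset.sum_congr rfl fun i _ => ?_
    rw [tau_tmul]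
    congr 1
    exact QS.stalkMap_germ a x U hx (p i)
  haveI : Module.Flat (X.presheaf.stalk x) (F.presheaf.stalk x) := hF x
  obtain ⟨k', α, y, hn, hm⟩ :=
    TensorProduct.vanishesTrivially_of_sum_tmul_eq_zero_of_rTensor_injective
      (X.presheaf.stalk x)
      (Module.Flat.rTensor_preserves_injective_linearMap _ (Submodule.injective_subtype _)) h2
  have hn' : ∀ i, germHom F U x hx (n i) = ∑ j, α i j • y j := hn
  have hm' : ∀ j, ∑ i, α i j • germHom A U x hx (p i) = 0 := by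
    intro j
    apply stalkLin_injective a x
    rw [map_sum, map_zero]
    simp only [map_smul]
    exact hm j
  -- lift to a neighbourhood
  obtain ⟨W₁, hW₁, hxW₁, αt, hαt⟩ := exists_germ_finite X.presheaf x
    (fun ij : Fin k × Fin k' => α ij.1 ij.2) U hx
  obtain ⟨W₂, hW₂, hxW₂, yt, hyt⟩ := exists_germ_finite F.presheaf x y W₁ hxW₁
  have hW₂U : W₂ ≤ U := hW₂.trans hW₁
  let α₂ : Fin k → Fin k' → X.sheaf.obj.obj (op W₂) := fun i j =>
    X.presheaf.map (homOfLE hW₂).op (αt (i, j))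
  have hα₂ : ∀ i j, X.presheaf.germ W₂ x hxW₂ (α₂ i j) = α i j := fun i j => by
    show X.presheaf.germ W₂ x hxW₂ (X.presheaf.map (homOfLE hW₂).op (αt (i, j))) = _
    rw [TopCat.Presheaf.germ_res_apply]
    exact hαt (i, j)
  let p₂ : Fin k → P.obj (op W₂) := fun i => P.restrictₛₗ (homOfLE hW₂U).op (p i)
  let n₂ : Fin k → N.obj (op W₂) := fun i => N.restrictₛₗ (homOfLE hW₂U).op (n i)
  let y₂ : Fin k' → N.obj (op W₂) := yt
  have hy₂ : ∀ j, germHom F W₂ x hxW₂ (y₂ j) = y j := hyt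
  obtain ⟨W, hW, hxW, hε, hδ⟩ := exists_restrict_eq_zero₂ A F x hxW₂
    (fun j => ∑ i, α₂ i j • p₂ i) (fun i => n₂ i - ∑ j, α₂ i j • y₂ j)
    (fun j => by
      rw [map_sum, ← hm' j]
      refine Finset.sum_congr rfl fun i _ => ?_
      rw [germHom_smul, hα₂, germHom_restrict])
    (fun i => by
      rw [map_sub, map_sum, germHom_restrict, hn' i, sub_eq_zero]
      refine Finset.sum_congr rfl fun j _ => ?_
      rw [germHom_smul, hα₂, hy₂])
  refine ⟨W, homOfLE (hW.trans hW₂U), ?_, hxW⟩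
  show (P ⊗ N).map (homOfLE (hW.trans hW₂U)).op t = 0
  have e1 := PresheafOfModules.map_comp_apply (P ⊗ N) (homOfLE hW₂U).op (homOfLE hW).op t
  have e2 : (P ⊗ N).map ((homOfLE hW₂U).op ≫ (homOfLE hW).op) t =
      (P ⊗ N).map (homOfLE (hW.trans hW₂U)).op t := rfl
  have e3 : (P ⊗ N).map (homOfLE hW₂U).op t =
      ∑ i, p₂ i ⊗ₜ[X.sheaf.obj.obj (op W₂)] n₂ i := by
    rw [hpn]
    exact (map_sum ((P ⊗ N).map (homOfLE hW₂U).op).hom _ _).trans
      (Finset.sum_congr rfl fun i _ => rfl)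
  have e4 : (P ⊗ N).map (homOfLE hW).op (∑ i, p₂ i ⊗ₜ[X.sheaf.obj.obj (op W₂)] n₂ i) =
      ∑ i, P.restrictₛₗ (homOfLE hW).op (p₂ i) ⊗ₜ[X.sheaf.obj.obj (op W)]
        N.restrictₛₗ (homOfLE hW).op (n₂ i) :=
    (map_sum ((P ⊗ N).map (homOfLE hW).op).hom _ _).trans
      (Finset.sum_congr rfl fun i _ => rfl)
  have e5 : (P ⊗ N).map (homOfLE (hW.trans hW₂U)).op t =
      ∑ i, P.restrictₛₗ (homOfLE hW).op (p₂ i) ⊗ₜ[X.sheaf.obj.obj (op W)]
        N.restrictₛₗ (homOfLE hW).op (n₂ i) :=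
    (e2.symm.trans e1).trans ((congrArg ((P ⊗ N).map (homOfLE hW).op).hom e3).trans e4)
  rw [e5]
  apply TensorProduct.sum_tmul_eq_zero_of_vanishesTrivially
  refine ⟨k', fun i j => X.presheaf.map (homOfLE hW).op (α₂ i j),
    fun j => N.restrictₛₗ (homOfLE hW).op (y₂ j), fun i => ?_, fun j => ?_⟩
  · show N.restrictₛₗ (homOfLE hW).op (n₂ i) = ∑ j,
      (X.presheaf.map (homOfLE hW).op).hom (α₂ i j) • N.restrictₛₗ (homOfLE hW).op (y₂ j)
    have h3 := hδ i
    rw [map_sub, map_sum, sub_eq_zero] at h3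
    rw [h3]
    refine Finset.sum_congr rfl fun j _ => ?_
    exact map_smulₛₗ _ _ _
  · show ∑ i, (X.presheaf.map (homOfLE hW).op).hom (α₂ i j) •
      P.restrictₛₗ (homOfLE hW).op (p₂ i) = 0
    have h3 := hε j
    rw [map_sum] at h3
    rw [← h3]
    refine Finset.sum_congr rfl fun i _ => ?_
    exact (map_smulₛₗ _ _ _).symm

end Groth.Agent.Lib.Helper2.StalkFlat
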