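import Groth.Agent.Lib.Helper13.ModSheafBasic
import Groth.Agent.Lib.Helper2.StalkFlat.Germs
import Groth.Agent.Lib.Helper2.StalkFlat.Alg

set_option autoImplicit false
universe u
open CategoryTheory CategoryTheory.Limits AlgebraicGeometry TopologicalSpace Opposite

namespace Groth.Agent.Lib.Helper2.StalkFlat

section AbColim

variable {K : Type*} [Category K] {D : K ⥤ Ab.{u}}

/-- The images of the legs of a colimit cocone of abelian groups generate the colimit. -/
theorem iSup_range_eq_top_of_isColimit (c : Cocone D) (hc : IsColimit c) :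
    (⨆ k, (c.ι.app k).hom.range : AddSubgroup c.pt) = ⊤ := by
  set H : AddSubgroup c.pt := ⨆ k, (c.ι.app k).hom.range with hH
  let q : c.pt ⟶ AddCommGrpCat.of (c.pt ⧸ H) := AddCommGrpCat.ofHom (QuotientAddGroup.mk' H)
  have hq : q = 0 := by
    apply hc.hom_ext
    intro k
    ext a
    have hmem : (c.ι.app k).hom a ∈ H := by
      rw [hH]
      exact AddSubgroup.mem_iSup_of_mem k ⟨a, rfl⟩
    show QuotientAddGroup.mk' H ((c.ι.app k).hom a) = _
    rw [QuotientAddGroup.mk'_apply, (QuotientAddGroup.eq_zero_iff _).mpr hmem]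
    simp
  rw [eq_top_iff]
  intro m _
  have h1 : q.hom m = 0 := by rw [hq]; rfl
  exact (QuotientAddGroup.eq_zero_iff m).mp h1

end AbColim

variable {X : Scheme.{u}} (x : X)

/-- The stalk functor on `O_X`-modules, with values in abelian groups. -/
noncomputable def stalkAb : X.Modules ⥤ Ab.{u} :=
  Scheme.Modules.toPresheaf X ⋙ TopCat.Presheaf.stalkFunctor Ab.{u} x

/-- The stalk functor, factored through the underlying sheaf of abelian groups. -/
noncomputable def stalkAb' : X.Modules ⥤ Ab.{u} :=
  SheafOfModules.toSheaf X.ringCatSheaf ⋙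
    (TopCat.Sheaf.forget Ab.{u} X.toTopCat ⋙ TopCat.Presheaf.stalkFunctor Ab.{u} x)

instance (K : Type u) [Category.{u} K] : PreservesColimitsOfShape K (stalkAb' x) := by
  have h1 : PreservesColimitsOfShape K (SheafOfModules.toSheaf.{u} X.ringCatSheaf) :=
    Groth.Agent.Lib.Helper13.ModSheafBasic.toSheaf_preservesColimitsOfShape _ _
  have h0 : PreservesColimitsOfSize.{u, u}
      (TopCat.Sheaf.forget Ab.{u} X.toTopCat ⋙ TopCat.Presheaf.stalkFunctor Ab.{u} x) :=
    (Adjunction.ofIsLeftAdjoint _).leftAdjoint_preservesColimits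
  have h2 : PreservesColimitsOfShape K
      (TopCat.Sheaf.forget Ab.{u} X.toTopCat ⋙ TopCat.Presheaf.stalkFunctor Ab.{u} x) :=
    h0.preservesColimitsOfShape
  exact ⟨fun {D} => ⟨fun {c} hc => ⟨isColimitOfPreserves
      (TopCat.Sheaf.forget Ab.{u} X.toTopCat ⋙ TopCat.Presheaf.stalkFunctor Ab.{u} x)
      (isColimitOfPreserves (SheafOfModules.toSheaf.{u} X.ringCatSheaf) hc)⟩⟩⟩

/-- The two forms of the stalk functor agree. -/
noncomputable def stalkAbIso : stalkAb x ≅ stalkAb' x :=
  NatIso.ofComponents (fun _ => Iso.refl _)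

instance (K : Type u) [Category.{u} K] : PreservesColimitsOfShape K (stalkAb x) :=
  preservesColimitsOfShape_of_natIso (stalkAbIso x).symm

end Groth.Agent.Lib.Helper2.StalkFlat
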